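import Groth.Agent.Lib.CMMor6.Open
import Groth.Agent.S3029
import Mathlib.FieldTheory.Normal.Closure
import Mathlib.RingTheory.Jacobson.Ring
import Mathlib.RingTheory.QuasiFinite.Basic

/-!
Flat group schemes over a local artinian ring: a finite free local extension of the base makes all
points over a given closed point strictly rational.
-/

universe u

open CategoryTheory CategoryTheory.Limits MonoidalCategory CartesianMonoidalCategory MonObj GrpObj AlgebraicGeometry
open scoped TensorProduct

set_option backward.isDefEq.respectTransparency false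

namespace GrothLib.RatPts14

variable {A : Type u} [CommRing A] [IsArtinianRing A] [IsLocalRing A]

/-- The local factor of a finite flat algebra at a surjection onto a field. -/
theorem exists_local_factor {K : Type u} [Field K] (B : Type u) [CommRing B] [Algebra A B]
    [Module.Finite A B] [Module.Flat A B] (β : B →+* K) (hβ : Function.Surjective β) :
    ∃ (C : Type u) (_ : CommRing C) (_ : IsLocalRing C) (_ : Algebra A C) (_ : Module.Finite A C) (_ : Module.Free A C)
      (i : B →ₐ[A] C) (ρ : C →+* K), Function.Surjective ρ ∧ ρ.comp (i : B →+* C) = β := by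
  haveI : IsArtinianRing B := IsArtinianRing.of_finite A B
  let Q : Ideal B := RingHom.ker β
  haveI : Q.IsPrime := RingHom.ker_isPrime β
  let C := Localization.AtPrime Q
  have hu : ∀ y : Q.primeCompl, IsUnit (β y) := fun y => Ne.isUnit fun h => y.2 h
  have hsurj : Function.Surjective (algebraMap B C) :=
    IsArtinianRing.localization_surjective Q.primeCompl C
  haveI : Module.Flat A C := Module.Flat.trans A B C
  haveI : Module.Finite A C := Module.Finite.of_surjective (IsScalarTower.toAlgHom A B C).toLinearMap hsurj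
  haveI : Module.Free A C := Module.free_of_flat_of_isLocalRing
  refine ⟨C, inferInstance, inferInstance, inferInstance, inferInstance, inferInstance,
    IsScalarTower.toAlgHom A B C, IsLocalization.lift hu, fun c => ?_, IsLocalization.lift_comp hu⟩
  obtain ⟨b, hb⟩ := hβ c
  exact ⟨algebraMap B C b, (IsLocalization.lift_eq hu b).trans hb⟩

/-- A finite field extension of the residue field lifts to a local finite free algebra. -/
theorem exists_lift_residue (K : Type u) [Field K] [Algebra A K] [Module.Finite A K] :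
    ∃ (C : Type u) (_ : CommRing C) (_ : IsLocalRing C) (_ : Algebra A C) (_ : Module.Finite A C) (_ : Module.Free A C)
      (ρ : C →ₐ[A] K), Function.Surjective ρ := by
  classical
  obtain ⟨s, hs⟩ := (Module.Finite.fg_top : (⊤ : Submodule A K).FG)
  suffices key : ∀ t : Finset K, ∃ (B : Type u) (_ : CommRing B) (_ : Algebra A B) (_ : Module.Finite A B)
      (_ : Module.Free A B) (β : B →ₐ[A] K), (t : Set K) ⊆ Set.range β by
    obtain ⟨B, _, _, _, _, β, hβ⟩ := key s
    have hsurj : Function.Surjective β := fun y => by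
      have h : y ∈ Submodule.span A (s : Set K) := hs ▸ Submodule.mem_top
      obtain ⟨b, hb⟩ := (Submodule.span_le.mpr (show (s : Set K) ⊆ LinearMap.range β.toLinearMap from hβ)) h
      exact ⟨b, hb⟩
    obtain ⟨C, _, _, _, _, _, i, ρ, hρ, hρi⟩ := exists_local_factor (A := A) B (β : B →+* K) hsurj
    exact ⟨C, inferInstance, inferInstance, inferInstance, inferInstance, inferInstance,
      ⟨ρ, fun a => by rw [← i.commutes a]; exact (RingHom.congr_fun hρi _).trans (β.commutes a)⟩, hρ⟩
  intro t
  induction t using Finset.induction with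
  | empty => exact ⟨A, inferInstance, inferInstance, inferInstance, inferInstance, Algebra.ofId A K, by simp⟩
  | insert a t _ ih =>
    obtain ⟨B, _, _, _, _, β, hβ⟩ := ih
    obtain ⟨p, hp, hpa⟩ := Algebra.IsIntegral.isIntegral (R := A) a
    haveI := hp.finite_adjoinRoot
    haveI := hp.free_adjoinRoot
    refine ⟨B ⊗[A] AdjoinRoot p, inferInstance, inferInstance, inferInstance, inferInstance,
      Algebra.TensorProduct.lift β (AdjoinRoot.liftAlgHom p (Algebra.ofId A K) a hpa) fun _ _ => Commute.all _ _, ?_⟩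
    intro y hy
    rw [Finset.coe_insert, Set.mem_insert_iff] at hy
    obtain rfl | hy := hy
    · exact ⟨1 ⊗ₜ AdjoinRoot.root p, by simp⟩
    · obtain ⟨b, rfl⟩ := hβ hy
      exact ⟨b ⊗ₜ 1, by simp⟩

/-- A flat group scheme locally of finite type is Cohen–Macaulay over an artinian base. -/
theorem isCMAt_hom (G : Over (Spec (CommRingCat.of A))) [GrpObj G] [Flat G.hom] [LocallyOfFiniteType G.hom]
    (x : G.left) : MoreMor.IsCMAt G.hom x :=
  ⟨Flat.stalkMap G.hom x,
    haveI : LocallyOfFiniteType (Red.bc ((Spec (CommRingCat.of A)).fromSpecResidueField (G.hom x)) G).hom :=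
      MorphismProperty.pullback_snd _ _ inferInstance
    Groth.Agent.S3029.result _ (Red.bc ((Spec (CommRingCat.of A)).fromSpecResidueField (G.hom x)) G)
      (G.hom.asFiber x)⟩

variable (G : Over (Spec (CommRingCat.of A))) [GrpObj G] [Flat G.hom] [LocallyOfFiniteType G.hom]

/-- A point with values in the residue field of a local finite free algebra lifts after a further such extension. -/
theorem exists_step {K : Type u} [Field K] [Algebra A K] (A' : Type u) [CommRing A'] [IsLocalRing A'] [Algebra A A']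
    [Module.Finite A A'] [Module.Free A A'] (ρ : A' →ₐ[A] K) (hρ : Function.Surjective ρ)
    (y : Spec (CommRingCat.of K) ⟶ G.left) (hy : y ≫ G.hom = Spec.map (CommRingCat.ofHom (algebraMap A K))) :
    ∃ (C : Type u) (_ : CommRing C) (_ : IsLocalRing C) (_ : Algebra A C) (_ : Module.Finite A C) (_ : Module.Free A C)
      (jA : A' →ₐ[A] C) (ρ' : C →ₐ[A] K), Function.Surjective ρ' ∧ ρ'.comp jA = ρ ∧
      ∃ t : Spec (CommRingCat.of C) ⟶ G.left, t ≫ G.hom = Spec.map (CommRingCat.ofHom (algebraMap A C)) ∧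
        Spec.map (CommRingCat.ofHom (ρ' : C →+* K)) ≫ t = y := by
  haveI : IsArtinianRing A' := IsArtinianRing.of_finite A A'
  haveI : LocallyOfFinitePresentation G.hom := inferInstance
  let o : Spec (CommRingCat.of K) := IsLocalRing.closedPoint K
  obtain ⟨V, hV, r, U, g, hxU, hg, hgfl, hgqf⟩ :=
    GrothLib.CMMor6.exists_slice G.hom (y o) (isCMAt_hom G (y o))
  obtain ⟨W, hW, hxW, hWU⟩ := exists_isAffineOpen_mem_and_subset hxU
  -- the constants
  haveI : Surjective hV.fromSpec := ⟨fun z => by
    obtain ⟨w, -⟩ : ∃ w, hV.fromSpec w = G.hom (y o) := by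
      obtain ⟨u₀, hu₀⟩ : ∃ u₀ : (U : Scheme.{u}), U.ι u₀ = y o := ⟨⟨y o, hxU⟩, rfl⟩
      exact ⟨(g ≫ Spec.map (CommRingCat.ofHom MvPolynomial.C)) u₀,
        (congrArg (fun f : (U : Scheme.{u}) ⟶ _ => f u₀) hg).trans (congrArg G.hom hu₀)⟩
    exact ⟨w, @Subsingleton.elim _ (inferInstanceAs (Subsingleton (PrimeSpectrum A))) _ _⟩⟩
  haveI : IsIso hV.fromSpec := (isIso_iff_isOpenImmersion_and_surjective _).mpr ⟨inferInstance, inferInstance⟩
  let θ := Spec.preimage hV.fromSpec
  have hθ : Spec.map θ = hV.fromSpec := Spec.map_preimage _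
  haveI : IsIso (Spec.map θ) := hθ ▸ ‹IsIso hV.fromSpec›
  haveI : IsIso θ := by
    haveI : IsIso (Scheme.Spec.map θ.op) := ‹IsIso (Spec.map θ)›
    exact (isIso_op_iff θ).mp (isIso_of_reflects_iso θ.op Scheme.Spec)
  let e : Γ(Spec (CommRingCat.of A), V) →+* A := (inv θ).hom
  have he : ∀ a, e (θ.hom a) = a := fun a => congrArg (fun f : CommRingCat.of A ⟶ _ => f.hom a) (IsIso.hom_inv_id θ)
  have he' : ∀ a, θ.hom (e a) = a := fun a =>
    congrArg (fun f : Γ(Spec (CommRingCat.of A), V) ⟶ _ => f.hom a) (IsIso.inv_hom_id θ)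
  -- the slice as a ring map
  let gW := (G.left.homOfLE hWU ≫ g)
  let φ := Spec.preimage (hW.isoSpec.inv ≫ gW)
  have hφ : Spec.map φ = hW.isoSpec.inv ≫ gW := Spec.map_preimage _
  have hφfl : φ.hom.Flat := (HasRingHomProperty.Spec_iff (P := @Flat)).mp (by rw [hφ]; infer_instance)
  have hφqf : φ.hom.QuasiFinite := (HasRingHomProperty.Spec_iff (P := @LocallyQuasiFinite)).mp (by rw [hφ]; infer_instance)
  have hstr : hW.fromSpec ≫ G.hom = Spec.map (θ ≫ CommRingCat.ofHom MvPolynomial.C ≫ φ) := by
    rw [Spec.map_comp, Spec.map_comp, hφ, hθ]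
    simp only [gW, Category.assoc]
    rw [hg, Scheme.homOfLE_ι_assoc, ← hW.isoSpec_inv_ι_assoc]
  have hφft : φ.hom.FiniteType := by
    have h : (θ ≫ CommRingCat.ofHom MvPolynomial.C ≫ φ).hom.FiniteType :=
      (HasRingHomProperty.Spec_iff (P := @LocallyOfFiniteType)).mp (by rw [← hstr]; infer_instance)
    simp only [CommRingCat.hom_comp, CommRingCat.hom_ofHom] at h
    exact (RingHom.FiniteType.of_comp_finiteType h).of_comp_finiteType
  -- the point in the chart
  have hyW : Set.range y ⊆ Set.range hW.fromSpec := by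
    rw [hW.range_fromSpec]
    rintro _ ⟨z, rfl⟩
    rw [show z = o from @Subsingleton.elim _ (inferInstanceAs (Subsingleton (PrimeSpectrum K))) z o]
    exact hxW
  let gam := Spec.preimage (IsOpenImmersion.lift hW.fromSpec y hyW)
  have hgam : Spec.map gam ≫ hW.fromSpec = y := by rw [Spec.map_preimage, IsOpenImmersion.lift_fac]
  have hgamc : ∀ a, gam.hom (φ.hom (MvPolynomial.C (θ.hom a))) = algebraMap A K a := by
    have h : θ ≫ CommRingCat.ofHom MvPolynomial.C ≫ φ ≫ gam = CommRingCat.ofHom (algebraMap A K) :=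
      Spec.map_injective (by rw [← hy, ← hgam, Category.assoc, hstr, ← Spec.map_comp, Category.assoc, Category.assoc])
    exact fun a => congrArg (fun f : CommRingCat.of A ⟶ _ => f.hom a) h
  choose v hv using fun j : Fin r => hρ (gam.hom (φ.hom (MvPolynomial.X j)))
  let P := MvPolynomial (Fin r) Γ(Spec (CommRingCat.of A), V)
  let ψ : P →+* A' := MvPolynomial.eval₂Hom ((algebraMap A A').comp e) v
  have hψ : (ρ : A' →+* K).comp ψ = gam.hom.comp φ.hom := MvPolynomial.ringHom_ext
    (fun a => by
      change ρ (ψ (MvPolynomial.C a)) = gam.hom (φ.hom (MvPolynomial.C a))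
      rw [MvPolynomial.eval₂Hom_C, RingHom.comp_apply, AlgHom.commutes, ← hgamc, he'])
    (fun j => by
      change ρ (ψ (MvPolynomial.X j)) = gam.hom (φ.hom (MvPolynomial.X j))
      rw [MvPolynomial.eval₂Hom_X', hv])
  letI : Algebra P A' := ψ.toAlgebra
  letI : Algebra P Γ(G.left, W) := φ.hom.toAlgebra
  letI : Algebra P K := (gam.hom.comp φ.hom).toAlgebra
  haveI : Module.Flat P Γ(G.left, W) := hφfl
  haveI : Algebra.QuasiFinite P Γ(G.left, W) := hφqf
  haveI : Algebra.FiniteType P Γ(G.left, W) := hφft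
  let B := A' ⊗[P] Γ(G.left, W)
  haveI : Algebra.QuasiFinite A' B := inferInstance
  haveI : Module.Finite A' B := Module.Finite.of_quasiFinite
  let ρP : A' →ₐ[P] K := ⟨(ρ : A' →+* K), fun p => RingHom.congr_fun hψ p⟩
  let gamP : Γ(G.left, W) →ₐ[P] K := ⟨gam.hom, fun _ => rfl⟩
  let β : B →ₐ[P] K := Algebra.TensorProduct.lift ρP gamP fun _ _ => Commute.all _ _
  have hβl : ∀ a : A', β (a ⊗ₜ 1) = ρ a := fun a =>
    (Algebra.TensorProduct.lift_tmul _ _ _ a (1 : Γ(G.left, W))).trans (by rw [map_one, _root_.mul_one]; rfl)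
  have hβr : ∀ d, β (1 ⊗ₜ d) = gam.hom d := fun d =>
    (Algebra.TensorProduct.lift_tmul _ _ _ (1 : A') d).trans (by rw [map_one, _root_.one_mul]; rfl)
  have hmove : ∀ c : P, ((1 : A') ⊗ₜ[P] φ.hom c : B) = ψ c ⊗ₜ[P] (1 : Γ(G.left, W)) := fun c =>
    (Algebra.TensorProduct.tmul_one_eq_one_tmul (R := P) (A := A') (B := Γ(G.left, W)) c).symm
  obtain ⟨C, _, _, _, _, _, i, ρC, hρC, hρi⟩ := exists_local_factor (A := A') B (β : B →+* K) fun z => by
    obtain ⟨a, ha⟩ := hρ z
    exact ⟨a ⊗ₜ 1, (hβl a).trans ha⟩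
  letI : Algebra A C := ((algebraMap A' C).comp (algebraMap A A')).toAlgebra
  haveI : IsScalarTower A A' C := .of_algebraMap_eq fun _ => rfl
  haveI : Module.Finite A C := Module.Finite.trans A' C
  haveI : Module.Free A C := Module.Free.trans (R := A) (S := A') (M := C)
  have hρa : ∀ a : A', ρC (algebraMap A' C a) = ρ a := fun a => by
    rw [← i.commutes a]
    exact (RingHom.congr_fun hρi _).trans (hβl a)
  let jD : Γ(G.left, W) →+* C := (i : B →+* C).comp Algebra.TensorProduct.includeRight.toRingHom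
  refine ⟨C, inferInstance, inferInstance, inferInstance, inferInstance, inferInstance,
    IsScalarTower.toAlgHom A A' C, ⟨ρC, fun a => (hρa _).trans (ρ.commutes a)⟩, hρC,
    AlgHom.ext hρa, Spec.map (CommRingCat.ofHom jD) ≫ hW.fromSpec, ?_, ?_⟩
  · rw [Category.assoc, hstr, ← Spec.map_comp]
    congr 1
    ext a
    change i ((1 : A') ⊗ₜ[P] φ.hom (MvPolynomial.C (θ.hom a))) = algebraMap A' C (algebraMap A A' a)
    rw [hmove, show ψ (MvPolynomial.C (θ.hom a)) = algebraMap A A' a by
      rw [MvPolynomial.eval₂Hom_C, RingHom.comp_apply, he]]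
    exact i.commutes (algebraMap A A' a)
  · rw [← Category.assoc, ← Spec.map_comp, ← hgam]
    congr 2
    ext d
    exact (RingHom.congr_fun hρi _).trans (hβr d)

/-- Finitely many residue field valued points lift after a local finite free extension. -/
theorem exists_lift_points {K : Type u} [Field K] [Algebra A K] [Module.Finite A K]
    {I : Type u} [Finite I] (y : I → (Spec (CommRingCat.of K) ⟶ G.left))
    (hy : ∀ i, y i ≫ G.hom = Spec.map (CommRingCat.ofHom (algebraMap A K))) :
    ∃ (C : Type u) (_ : CommRing C) (_ : IsLocalRing C) (_ : Algebra A C) (_ : Module.Finite A C) (_ : Module.Free A C)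
      (ρ : C →ₐ[A] K), Function.Surjective ρ ∧ ∀ i, ∃ t : Spec (CommRingCat.of C) ⟶ G.left,
        t ≫ G.hom = Spec.map (CommRingCat.ofHom (algebraMap A C)) ∧ Spec.map (CommRingCat.ofHom (ρ : C →+* K)) ≫ t = y i := by
  classical
  haveI := Fintype.ofFinite I
  suffices key : ∀ s : Finset I, ∃ (C : Type u) (_ : CommRing C) (_ : IsLocalRing C) (_ : Algebra A C)
      (_ : Module.Finite A C) (_ : Module.Free A C) (ρ : C →ₐ[A] K), Function.Surjective ρ ∧
      ∀ i ∈ s, ∃ t : Spec (CommRingCat.of C) ⟶ G.left,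
        t ≫ G.hom = Spec.map (CommRingCat.ofHom (algebraMap A C)) ∧ Spec.map (CommRingCat.ofHom (ρ : C →+* K)) ≫ t = y i by
    obtain ⟨C, h1, h2, h3, h4, h5, ρ, hρ, h⟩ := key Finset.univ
    exact ⟨C, h1, h2, h3, h4, h5, ρ, hρ, fun i => h i (Finset.mem_univ i)⟩
  intro s
  induction s using Finset.induction with
  | empty =>
    obtain ⟨C, h1, h2, h3, h4, h5, ρ, hρ⟩ := exists_lift_residue (A := A) K
    exact ⟨C, h1, h2, h3, h4, h5, ρ, hρ, by simp⟩
  | insert a s _ ih =>
    obtain ⟨A', _, _, _, _, _, ρ, hρ, h⟩ := ih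
    obtain ⟨C, h1, h2, h3, h4, h5, j, ρ', hρ', hj, ha⟩ := exists_step G A' ρ hρ (y a) (hy a)
    refine ⟨C, h1, h2, h3, h4, h5, ρ', hρ', fun i hi => ?_⟩
    rcases Finset.mem_insert.mp hi with rfl | hi
    · exact ha
    obtain ⟨t, ht, hty⟩ := h i hi
    refine ⟨Spec.map (CommRingCat.ofHom (j : A' →+* C)) ≫ t, ?_, ?_⟩
    · rw [Category.assoc, ht, ← Spec.map_comp, ← CommRingCat.ofHom_comp, AlgHom.comp_algebraMap]
    · rw [← Category.assoc, ← Spec.map_comp, ← CommRingCat.ofHom_comp, ← AlgHom.comp_toRingHom, hj, hty]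

attribute [-instance] IsLocalRing.ResidueField.algebraOfIsIntegral in
/-- All points over a closed point become strictly rational after a local finite free extension. -/
theorem exists_strictlyRational (x : G.left) (hx : IsClosed ({x} : Set G.left)) :
    ∃ (A' : Type u) (_ : CommRing A') (_ : IsLocalRing A') (_ : Algebra A A') (_ : Module.Finite A A') (_ : Module.Free A A'),
      ∀ x' : ↥(pullback G.hom (Spec.map (CommRingCat.ofHom (algebraMap A A')))),
        (pullback.fst G.hom (Spec.map (CommRingCat.ofHom (algebraMap A A')))).base x' = x →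
        ∃ s : Spec (CommRingCat.of A') ⟶ pullback G.hom (Spec.map (CommRingCat.ofHom (algebraMap A A'))),
          s ≫ pullback.snd G.hom (Spec.map (CommRingCat.ofHom (algebraMap A A'))) = 𝟙 _ ∧ x' ∈ Set.range s.base := by
  let κ := G.left.residueField x
  let f₀ := Spec.preimage (G.left.fromSpecResidueField x ≫ G.hom)
  have hf₀ : Spec.map f₀ = G.left.fromSpecResidueField x ≫ G.hom := Spec.map_preimage _
  letI : Algebra A κ := f₀.hom.toAlgebra
  haveI : LocallyOfFiniteType (Spec.map f₀) := by
    haveI : IsClosedImmersion (G.left.fromSpecResidueField x) :=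
      IsClosedImmersion.of_isPreimmersion _ (by rw [Scheme.range_fromSpecResidueField]; exact hx)
    rw [hf₀]; infer_instance
  haveI : Algebra.FiniteType A κ :=
    (HasRingHomProperty.Spec_iff (P := @LocallyOfFiniteType)).mp ‹LocallyOfFiniteType (Spec.map f₀)›
  haveI : Module.Finite A κ := finite_of_finite_type_of_isJacobsonRing A κ
  let k := IsLocalRing.ResidueField A
  have hker : IsLocalRing.maximalIdeal A ≤ RingHom.ker (algebraMap A κ) := by
    haveI := RingHom.ker_isPrime (algebraMap A κ)
    exact (IsLocalRing.eq_maximalIdeal (IsArtinianRing.isMaximal_of_isPrime (RingHom.ker (algebraMap A κ)))).ge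
  letI : Algebra k κ := (Ideal.Quotient.lift _ (algebraMap A κ) hker).toAlgebra
  haveI : IsScalarTower A k κ := .of_algebraMap_eq fun _ => rfl
  haveI : Module.Finite k κ := Module.Finite.of_restrictScalars_finite A k κ
  let K := IntermediateField.normalClosure k κ (AlgebraicClosure κ)
  have hn : Normal k K := normalClosure.normal k κ (AlgebraicClosure κ)
  let f₁ : κ →ₐ[k] AlgebraicClosure κ := IsScalarTower.toAlgHom k κ (AlgebraicClosure κ)
  let j₀ : κ →ₐ[k] K := f₁.codRestrict K.toSubalgebra fun z => f₁.fieldRange_le_normalClosure ⟨z, rfl⟩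
  haveI : Module.Finite A K := Module.Finite.trans k K
  haveI : Finite (κ →ₐ[k] K) := inferInstance
  obtain ⟨A', _, _, _, _, _, ρ, hρ, hlift⟩ := exists_lift_points G (K := K)
    (fun σ : κ →ₐ[k] K => Spec.map (CommRingCat.ofHom (σ : κ →+* K)) ≫ G.left.fromSpecResidueField x) (fun σ => by
      rw [Category.assoc, ← hf₀, ← Spec.map_comp]
      congr 1
      refine CommRingCat.hom_ext (RingHom.ext fun a => ?_)
      change σ (algebraMap A κ a) = algebraMap A K a
      rw [IsScalarTower.algebraMap_apply A k κ, AlgHom.commutes, ← IsScalarTower.algebraMap_apply])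
  refine ⟨A', inferInstance, inferInstance, inferInstance, inferInstance, inferInstance, fun x' hx' => ?_⟩
  let q := Spec.map (CommRingCat.ofHom (algebraMap A A'))
  let L := (pullback G.hom q).residueField x'
  let p := (pullback G.hom q).fromSpecResidueField x'
  let a' := Spec.preimage (p ≫ pullback.snd G.hom q)
  have ha' : Spec.map a' = p ≫ pullback.snd G.hom q := Spec.map_preimage _
  obtain ⟨b, hb⟩ : ∃ b : CommRingCat.of κ ⟶ L,
      Spec.map b ≫ G.left.fromSpecResidueField x = p ≫ pullback.fst G.hom q := by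
    subst hx'
    exact ⟨(pullback.fst G.hom q).residueFieldMap x', Scheme.Hom.SpecMap_residueFieldMap_fromSpecResidueField _ _⟩
  have hker' : RingHom.ker (ρ : A' →+* K) ≤ RingHom.ker a'.hom := by
    haveI : IsArtinianRing A' := IsArtinianRing.of_finite A A'
    haveI := RingHom.ker_isPrime a'.hom
    exact ((IsLocalRing.eq_maximalIdeal (RingHom.ker_isMaximal_of_surjective _ hρ)).trans
      (IsLocalRing.eq_maximalIdeal (IsArtinianRing.isMaximal_of_isPrime (RingHom.ker a'.hom))).symm).le
  let c : K →+* L := RingHom.liftOfSurjective (ρ : A' →+* K) hρ ⟨a'.hom, hker'⟩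
  have hc : ∀ a, c (ρ a) = a'.hom a := fun a =>
    RingHom.liftOfRightInverse_comp_apply _ _ _ ⟨a'.hom, hker'⟩ a
  have hab : ∀ a : A, b.hom (algebraMap A κ a) = a'.hom (algebraMap A A' a) := by
    have h : f₀ ≫ b = CommRingCat.ofHom (algebraMap A A') ≫ a' := Spec.map_injective (by
      rw [Spec.map_comp, Spec.map_comp, ha', hf₀, reassoc_of% hb, Category.assoc, pullback.condition])
    exact fun a => congrArg (fun f : CommRingCat.of A ⟶ _ => f.hom a) h
  letI : Algebra k L := (c.comp (algebraMap k K)).toAlgebra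
  let cA : K →ₐ[k] L := ⟨c, fun _ => rfl⟩
  let bA : κ →ₐ[k] L := ⟨b.hom, fun z => by
    obtain ⟨a, rfl⟩ := IsLocalRing.residue_surjective z
    change b.hom (algebraMap k κ (algebraMap A k a)) = c (algebraMap k K (algebraMap A k a))
    rw [← IsScalarTower.algebraMap_apply A k κ, ← IsScalarTower.algebraMap_apply A k K, hab, ← hc, AlgHom.commutes]⟩
  have hmem : ∀ z, bA z ∈ cA.range := fun z => by
    have hs : ((minpoly k z).map (algebraMap k K)).Splits := by
      have h := hn.splits (j₀ z)
      rwa [minpoly.algHom_eq j₀ j₀.injective] at h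
    have hroot : bA z ∈ (minpoly k z).rootSet L :=
      Polynomial.mem_rootSet_of_ne (minpoly.ne_zero (Algebra.IsIntegral.isIntegral z)) |>.mpr (by
        rw [Polynomial.aeval_algHom_apply, minpoly.aeval, map_zero])
    rw [← hs.image_rootSet cA] at hroot
    obtain ⟨w, -, hw⟩ := hroot
    exact ⟨w, hw⟩
  let σ : κ →ₐ[k] K :=
    (AlgEquiv.ofInjective cA c.injective).symm.toAlgHom.comp (bA.codRestrict cA.range hmem)
  have hσ : ∀ z, c (σ z) = b.hom z := fun z =>
    congrArg Subtype.val ((AlgEquiv.ofInjective cA c.injective).apply_symm_apply (bA.codRestrict cA.range hmem z))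
  obtain ⟨t, ht, hty⟩ := hlift σ
  refine ⟨pullback.lift t (𝟙 _) (by rw [ht, Category.id_comp]), pullback.lift_snd _ _ _, ?_⟩
  have key : (Spec.map (CommRingCat.ofHom c) ≫ Spec.map (CommRingCat.ofHom (ρ : A' →+* K))) ≫
      pullback.lift t (𝟙 _) (by rw [ht, Category.id_comp]) = p := by
    refine pullback.hom_ext ?_ ?_
    · simp only [Category.assoc, pullback.lift_fst, hty]
      rw [← Category.assoc, ← Spec.map_comp, ← hb]
      congr 2
      ext z
      exact hσ z
    · rw [Category.assoc, pullback.lift_snd, Category.comp_id, ← ha', ← Spec.map_comp]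
      congr 1
      ext a
      exact hc a
  exact ⟨(Spec.map (CommRingCat.ofHom c) ≫ Spec.map (CommRingCat.ofHom (ρ : A' →+* K)))
    (IsLocalRing.closedPoint L), by rw [← Scheme.Hom.comp_apply, key]; exact Scheme.fromSpecResidueField_apply _ _⟩

end GrothLib.RatPts14
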